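import Mathlib
import Cfsg.Prelude.Def_OddOrderLocal

namespace Cfsg.Agent.Lib.Helper25.HT

universe u

/-- An `r`-subgroup `A` has a conjugate inside any subgroup `H` of index prime to `r`. -/
theorem exists_conj_mem_of_pgroup {G : Type*} [Group G] [Finite G] {r : ℕ} [Fact r.Prime]
    (H A : Subgroup G) (hA : IsPGroup r A) (hr : ¬ r ∣ H.index) :
    ∃ g : G, ∀ a ∈ A, g * a * g⁻¹ ∈ H := by
  obtain ⟨q, hq⟩ := hA.nonempty_fixed_point_of_prime_not_dvd_card (G ⧸ H) hr
  induction q using QuotientGroup.induction_on with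
  | H g =>
    refine ⟨g⁻¹, fun a ha => ?_⟩
    have h1 := hq ⟨a⁻¹, A.inv_mem ha⟩
    have h2 : ((a⁻¹ * g : G) : G ⧸ H) = (g : G ⧸ H) := h1
    rw [QuotientGroup.eq] at h2
    simpa [mul_assoc] using h2

variable {Ω : Type*} [Fintype Ω] [DecidableEq Ω] {π : Set ℕ} {H : Subgroup (Equiv.Perm Ω)}

theorem exists_cycle_mem (hH : Cfsg.IsPiHall π H) (r : ℕ) (hr : r.Prime) (hrπ : r ∈ π)
    (hrn : r ≤ Fintype.card Ω) : ∃ b ∈ H, b.IsCycle ∧ b.support.card = r := by
  haveI : Fact r.Prime := ⟨hr⟩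
  obtain ⟨c, hc⟩ := (Equiv.Perm.exists_with_cycleType_iff (α := Ω) (m := {r})).mpr
    ⟨by simpa using hrn, by intro a ha; simp at ha; subst ha; exact hr.two_le⟩
  have hcyc : c.IsCycle := by
    rw [← Equiv.Perm.card_cycleType_eq_one, hc]; simp
  have hsupp : c.support.card = r := by
    rw [← Equiv.Perm.sum_cycleType, hc]; simp
  have hord : orderOf c = r := by rw [hcyc.orderOf, hsupp]
  have hA : IsPGroup r (Subgroup.zpowers c) := by
    refine IsPGroup.of_card (n := 1) ?_
    rw [Nat.card_zpowers, hord, pow_one]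
  obtain ⟨g, hg⟩ := exists_conj_mem_of_pgroup H (Subgroup.zpowers c) hA (hH.2 r hr hrπ)
  refine ⟨g * c * g⁻¹, hg c (Subgroup.mem_zpowers c), hcyc.conj, ?_⟩
  rw [Equiv.Perm.card_support_conj, hsupp]

theorem exists_invol_swaps (hH : Cfsg.IsPiHall π H) (h2 : 2 ∈ π) :
    ∃ f : Ω → Ω, (∀ y, Equiv.swap y (f y) ∈ H) ∧ ∀ y z, f y = y → f z = z → y = z := by
  haveI : Fact (Nat.Prime 2) := ⟨Nat.prime_two⟩
  obtain ⟨g0, hg0⟩ := (Equiv.Perm.exists_with_cycleType_iff (α := Ω)
    (m := Multiset.replicate (Fintype.card Ω / 2) 2)).mpr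
    ⟨by simp only [Multiset.sum_replicate, smul_eq_mul]; omega,
     by intro a ha; rw [Multiset.eq_of_mem_replicate ha]⟩
  have hsq : g0 ^ 2 = 1 := by
    apply orderOf_dvd_iff_pow_eq_one.mp
    rw [← Equiv.Perm.lcm_cycleType, hg0, Multiset.lcm_dvd]
    intro b hb; rw [Multiset.eq_of_mem_replicate hb]
  have hinv : ∀ x, g0 (g0 x) = x := by
    intro x
    have := congrArg (fun σ : Equiv.Perm Ω => σ x) hsq
    simpa [pow_two] using this
  have hsupp : Fintype.card Ω - 1 ≤ g0.support.card := by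
    rw [← Equiv.Perm.sum_cycleType, hg0]
    simp only [Multiset.sum_replicate, smul_eq_mul]; omega
  have hfix : ∀ y z, g0 y = y → g0 z = z → y = z := by
    intro y z hy hz
    have hy' : y ∈ g0.supportᶜ := by simpa using hy
    have hz' : z ∈ g0.supportᶜ := by simpa using hz
    have hcard : (g0.supportᶜ).card ≤ 1 := by
      rw [Finset.card_compl]; omega
    exact Finset.card_le_one.mp hcard y hy' z hz'
  let A : Subgroup (Equiv.Perm Ω) :=
    { carrier := {σ | ∀ x, σ x = x ∨ σ x = g0 x}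
      mul_mem' := by
        intro σ τ hσ hτ x
        simp only [Equiv.Perm.coe_mul, Function.comp_apply]
        rcases hτ x with h | h
        · rw [h]; exact hσ x
        · rw [h]
          rcases hσ (g0 x) with h' | h'
          · right; exact h'
          · left; rw [h', hinv]
      one_mem' := by intro x; left; rfl
      inv_mem' := by
        intro σ hσ x
        rcases hσ (σ⁻¹ x) with h | h
        · left
          have : σ (σ⁻¹ x) = x := by simp
          rw [this] at h; exact h.symm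
        · right
          have : σ (σ⁻¹ x) = x := by simp
          rw [this] at h
          calc σ⁻¹ x = g0 (g0 (σ⁻¹ x)) := (hinv _).symm
            _ = g0 x := by rw [← h] }
  have hAmem : ∀ σ : Equiv.Perm Ω, σ ∈ A ↔ ∀ x, σ x = x ∨ σ x = g0 x := fun σ => Iff.rfl
  have hA : IsPGroup 2 A := by
    intro ⟨σ, hσ⟩
    refine ⟨1, ?_⟩
    apply Subtype.ext
    simp only [pow_one, Subgroup.coe_pow, Subgroup.coe_one]
    ext x
    simp only [pow_two, Equiv.Perm.coe_mul, Function.comp_apply, Equiv.Perm.coe_one, id_eq]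
    rcases hσ x with h | h
    · rw [h, h]
    · rcases hσ (g0 x) with h' | h'
      · have : g0 x = x := σ.injective (h'.trans h.symm)
        rw [h, h', this]
      · rw [h, h', hinv]
  obtain ⟨g, hg⟩ := exists_conj_mem_of_pgroup H A hA (hH.2 2 Nat.prime_two h2)
  refine ⟨fun y => g (g0 (g⁻¹ y)), fun y => ?_, fun y z hy hz => ?_⟩
  · have hsw : Equiv.swap (g⁻¹ y) (g0 (g⁻¹ y)) ∈ A := by
      rw [hAmem]
      intro x
      by_cases h1 : x = g⁻¹ y
      · right; rw [h1, Equiv.swap_apply_left]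
      · by_cases h2 : x = g0 (g⁻¹ y)
        · right; rw [h2, Equiv.swap_apply_right, hinv]
        · left; exact Equiv.swap_apply_of_ne_of_ne h1 h2
    have := hg _ hsw
    have h3 : g * Equiv.swap (g⁻¹ y) (g0 (g⁻¹ y)) * g⁻¹ = Equiv.swap y (g (g0 (g⁻¹ y))) := by
      rw [← Equiv.swap_apply_apply]; simp
    rw [h3] at this
    exact this
  · have hy' : g0 (g⁻¹ y) = g⁻¹ y := by
      apply g.injective; simpa using hy
    have hz' : g0 (g⁻¹ z) = g⁻¹ z := by
      apply g.injective; simpa using hz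
    have := hfix _ _ hy' hz'
    exact (g⁻¹).injective this

end Cfsg.Agent.Lib.Helper25.HT
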