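import Mathlib
import Cfsg.Prelude.Def_OddOrderLocal
import Cfsg.Prelude.Def_HallClasses
import Cfsg.Agent.Lib.Helper78.HT.SetStab

namespace Cfsg.Agent.Lib.Helper25.HT

open Cfsg.Agent.Lib.Helper78.HT

/-- The cardinality of a subgroup of `Perm (Fin n)` times its index is `n!`. -/
theorem card_mul_index_perm_fin (n : ℕ) (H : Subgroup (Equiv.Perm (Fin n))) :
    Nat.card H * H.index = n.factorial := by
  rw [Subgroup.card_mul_index, Nat.card_perm, Nat.card_eq_fintype_card, Fintype.card_fin]

theorem hall_exists_prime (n : ℕ) (hn : n.Prime) (π : Set ℕ)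
    (hπ : ∀ r : ℕ, r.Prime → r ≤ n → (r ∈ π ↔ r < n)) :
    Cfsg.IsEPiGroup π (Equiv.Perm (Fin n)) := by
  have hpos : 0 < n := hn.pos
  let s : Finset (Fin n) := {⟨0, hpos⟩}
  have hidx : (setStab s).index = n := by
    rw [index_setStab, Fintype.card_fin]
    simp [s]
  have hcard : Nat.card (setStab s) = (n - 1).factorial := by
    have h1 := card_mul_index_perm_fin n (setStab s)
    rw [hidx] at h1
    have h2 : n.factorial = (n - 1).factorial * n := by
      obtain ⟨m, rfl⟩ : ∃ m, n = m + 1 := ⟨n - 1, by omega⟩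
      rw [Nat.factorial_succ]; simp [mul_comm]
    rw [h2] at h1
    exact Nat.eq_of_mul_eq_mul_right hpos h1
  refine ⟨setStab s, ?_, ?_⟩
  · intro p hp hdvd
    rw [hcard, hp.dvd_factorial] at hdvd
    exact (hπ p hp (by omega)).mpr (by omega)
  · intro p hp hpπ hdvd
    rw [hidx] at hdvd
    have hpn : p = n := (Nat.prime_dvd_prime_iff_eq hp hn).mp hdvd
    have := (hπ p hp (by omega)).mp hpπ
    omega

theorem hall_exists_seven (π : Set ℕ)
    (hπ : ∀ r : ℕ, r.Prime → r ≤ 7 → (r ∈ π ↔ (r = 2 ∨ r = 3))) :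
    Cfsg.IsEPiGroup π (Equiv.Perm (Fin 7)) := by
  let s : Finset (Fin 7) := {0, 1, 2}
  have hs : s.card = 3 := by decide
  have hidx : (setStab s).index = 35 := by
    rw [index_setStab, Fintype.card_fin, hs]; decide
  have hcard : Nat.card (setStab s) = 144 := by
    have h1 := card_mul_index_perm_fin 7 (setStab s)
    rw [hidx] at h1
    have h2 : Nat.factorial 7 = 144 * 35 := by decide
    rw [h2] at h1
    exact Nat.eq_of_mul_eq_mul_right (by norm_num) h1
  refine ⟨setStab s, ?_, ?_⟩
  · intro p hp hdvd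
    rw [hcard] at hdvd
    have h3 : p ∣ 2 ^ 4 * 3 ^ 2 := by norm_num; exact hdvd
    rcases (Nat.Prime.dvd_mul hp).mp h3 with h | h
    · have := (Nat.prime_dvd_prime_iff_eq hp Nat.prime_two).mp (hp.dvd_of_dvd_pow h)
      exact (hπ p hp (by omega)).mpr (Or.inl this)
    · have := (Nat.prime_dvd_prime_iff_eq hp Nat.prime_three).mp (hp.dvd_of_dvd_pow h)
      exact (hπ p hp (by omega)).mpr (Or.inr this)
  · intro p hp hpπ hdvd
    rw [hidx] at hdvd
    have h3 : p ∣ 5 * 7 := by norm_num; exact hdvd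
    rcases (Nat.Prime.dvd_mul hp).mp h3 with h | h
    · have h5 : p = 5 := (Nat.prime_dvd_prime_iff_eq hp (by norm_num)).mp h
      have := (hπ p hp (by omega)).mp hpπ
      omega
    · have h7 : p = 7 := (Nat.prime_dvd_prime_iff_eq hp (by norm_num)).mp h
      have := (hπ p hp (by omega)).mp hpπ
      omega

/-- The permutations preserving or swapping a set and its complement. -/
def blockStab {Ω : Type*} (s : Finset Ω) : Subgroup (Equiv.Perm Ω) where
  carrier := {σ | (∀ x, σ x ∈ s ↔ x ∈ s) ∨ (∀ x, σ x ∈ s ↔ x ∉ s)}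
  mul_mem' := by
    intro a b ha hb
    rcases ha with ha | ha <;> rcases hb with hb | hb
    · left; intro x; rw [Equiv.Perm.mul_apply, ha (b x), hb x]
    · right; intro x; rw [Equiv.Perm.mul_apply, ha (b x), hb x]
    · right; intro x; rw [Equiv.Perm.mul_apply, ha (b x), hb x]
    · left; intro x; rw [Equiv.Perm.mul_apply, ha (b x), hb x, not_not]
  one_mem' := Or.inl fun x => Iff.rfl
  inv_mem' := by
    intro a ha
    rcases ha with ha | ha
    · left; intro x
      rw [← ha (a⁻¹ x)]; simp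
    · right; intro x
      have h := ha (a⁻¹ x)
      have h2 : a (a⁻¹ x) = x := by simp
      rw [h2] at h
      tauto

theorem setStab_le_blockStab {Ω : Type*} (s : Finset Ω) : setStab s ≤ blockStab s :=
  fun _ h => Or.inl h

/-- If some permutation swaps `s` and its complement, then the set stabilizer has index `2`
in the block stabilizer. -/
theorem relIndex_setStab_blockStab {Ω : Type*} [Nonempty Ω] (s : Finset Ω) (τ : Equiv.Perm Ω)
    (hτ : ∀ x, τ x ∈ s ↔ x ∉ s) : (setStab s).relIndex (blockStab s) = 2 := by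
  rw [Subgroup.relIndex, Subgroup.index_eq_two_iff]
  refine ⟨⟨τ, Or.inr hτ⟩, fun b => ?_⟩
  obtain ⟨b, hb⟩ := b
  obtain ⟨x0⟩ := ‹Nonempty Ω›
  simp only [Subgroup.mem_subgroupOf, Subgroup.coe_mul, mem_setStab, Equiv.Perm.mul_apply]
  rcases hb with hb | hb
  · refine Or.inr ⟨hb, fun h => ?_⟩
    have h1 := h x0
    rw [hb, hτ] at h1
    tauto
  · refine Or.inl ⟨fun x => ?_, fun h => ?_⟩
    · rw [hb, hτ, not_not]
    · have h1 := h x0
      rw [hb] at h1
      tauto

theorem hall_exists_eight (π : Set ℕ)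
    (hπ : ∀ r : ℕ, r.Prime → r ≤ 8 → (r ∈ π ↔ (r = 2 ∨ r = 3))) :
    Cfsg.IsEPiGroup π (Equiv.Perm (Fin 8)) := by
  let s : Finset (Fin 8) := {0, 1, 2, 3}
  have hs : s.card = 4 := by decide
  have hτ : ∀ x : Fin 8, Fin.revPerm x ∈ s ↔ x ∉ s := by decide
  have hrel := relIndex_setStab_blockStab s Fin.revPerm hτ
  have hidx0 : (setStab s).index = 70 := by
    rw [index_setStab, Fintype.card_fin, hs]; decide
  have hidx : (blockStab s).index = 35 := by
    have h1 := Subgroup.relIndex_mul_index (setStab_le_blockStab s)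
    rw [hrel, hidx0] at h1
    omega
  have hcard : Nat.card (blockStab s) = 1152 := by
    have h1 := card_mul_index_perm_fin 8 (blockStab s)
    rw [hidx] at h1
    have h2 : Nat.factorial 8 = 1152 * 35 := by decide
    rw [h2] at h1
    exact Nat.eq_of_mul_eq_mul_right (by norm_num) h1
  refine ⟨blockStab s, ?_, ?_⟩
  · intro p hp hdvd
    rw [hcard] at hdvd
    have h3 : p ∣ 2 ^ 7 * 3 ^ 2 := by norm_num; exact hdvd
    rcases (Nat.Prime.dvd_mul hp).mp h3 with h | h
    · have := (Nat.prime_dvd_prime_iff_eq hp Nat.prime_two).mp (hp.dvd_of_dvd_pow h)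
      exact (hπ p hp (by omega)).mpr (Or.inl this)
    · have := (Nat.prime_dvd_prime_iff_eq hp Nat.prime_three).mp (hp.dvd_of_dvd_pow h)
      exact (hπ p hp (by omega)).mpr (Or.inr this)
  · intro p hp hpπ hdvd
    rw [hidx] at hdvd
    have h3 : p ∣ 5 * 7 := by norm_num; exact hdvd
    rcases (Nat.Prime.dvd_mul hp).mp h3 with h | h
    · have h5 : p = 5 := (Nat.prime_dvd_prime_iff_eq hp (by norm_num)).mp h
      have := (hπ p hp (by omega)).mp hpπ
      omega
    · have h7 : p = 7 := (Nat.prime_dvd_prime_iff_eq hp (by norm_num)).mp h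
      have := (hπ p hp (by omega)).mp hpπ
      omega

end Cfsg.Agent.Lib.Helper25.HT
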